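import Mathlib

/-!
# Three-cycles in alternating groups
-/

set_option autoImplicit false

namespace Cfsg.Agent.AltMult

open Equiv Equiv.Perm

variable {α : Type*} [Fintype α] [DecidableEq α]

/-- The cycle `a ↦ b ↦ c ↦ a`. -/
def cyc (a b c : α) : Perm α := swap a c * swap a b

theorem conj_cyc (σ : Perm α) (a b c : α) : σ * cyc a b c * σ⁻¹ = cyc (σ a) (σ b) (σ c) := by
  simp only [cyc, Equiv.swap_apply_apply]
  group

theorem cyc_apply_left {a b c : α} (hab : a ≠ b) (hbc : b ≠ c) : cyc a b c a = b := by
  simp [cyc, swap_apply_of_ne_of_ne, hab.symm, hbc]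

theorem cyc_apply_mid {a b c : α} : cyc a b c b = c := by
  simp [cyc]

theorem cyc_apply_right {a b c : α} (hac : a ≠ c) (hbc : b ≠ c) : cyc a b c c = a := by
  simp [cyc, swap_apply_of_ne_of_ne, hac.symm, hbc.symm]

theorem cyc_apply_of_ne {a b c t : α} (ha : t ≠ a) (hb : t ≠ b) (hc : t ≠ c) : cyc a b c t = t := by
  simp [cyc, swap_apply_of_ne_of_ne, ha, hb, hc]

theorem cyc_pow_three {a b c : α} (hab : a ≠ b) (hac : a ≠ c) (hbc : b ≠ c) : cyc a b c ^ 3 = 1 := by
  ext t
  by_cases ha : t = a
  · subst ha; simp [pow_three, cyc_apply_left hab hbc, cyc_apply_mid, cyc_apply_right hac hbc]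
  by_cases hb : t = b
  · subst hb; simp [pow_three, cyc_apply_left hab hbc, cyc_apply_mid, cyc_apply_right hac hbc]
  by_cases hc : t = c
  · subst hc; simp [pow_three, cyc_apply_left hab hbc, cyc_apply_mid, cyc_apply_right hac hbc]
  simp [pow_three, cyc_apply_of_ne ha hb hc]

theorem cyc_inv {a b c : α} (hab : a ≠ b) (hac : a ≠ c) (hbc : b ≠ c) :
    (cyc a b c)⁻¹ = cyc b a c := by
  apply inv_eq_of_mul_eq_one_right
  ext t
  by_cases ha : t = a
  · subst ha; simp [cyc_apply_mid, cyc_apply_right hac hbc]
  by_cases hb : t = b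
  · subst hb; simp [cyc_apply_left hab hbc, cyc_apply_left hab.symm hac]
  by_cases hc : t = c
  · subst hc; simp [cyc_apply_right hbc hac, cyc_apply_mid]
  simp [cyc_apply_of_ne ha hb hc, cyc_apply_of_ne hb ha hc]

theorem sign_cyc {a b c : α} (hab : a ≠ b) (hac : a ≠ c) : sign (cyc a b c) = 1 := by
  simp [cyc, sign_swap hab, sign_swap hac]

/-- The cycle as an element of the alternating group. -/
def cycA (a b c : α) (hab : a ≠ b) (hac : a ≠ c) : alternatingGroup α :=
  ⟨cyc a b c, mem_alternatingGroup.2 (sign_cyc hab hac)⟩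

theorem exists_centralizer_decomp {a b c : α} (hab : a ≠ b) (hac : a ≠ c) (hbc : b ≠ c)
    (h6 : Fintype.card α ≠ 6) (h7 : Fintype.card α ≠ 7) (g : alternatingGroup α)
    (hg : g ∈ Subgroup.centralizer ({cycA a b c hab hac} : Set (alternatingGroup α))) :
    ∃ k : ℕ, ∃ h ∈ ⁅Subgroup.centralizer ({cycA a b c hab hac} : Set (alternatingGroup α)),
        Subgroup.centralizer ({cycA a b c hab hac} : Set (alternatingGroup α))⁆,
      g = cycA a b c hab hac ^ k * h := by
  classical
  set x := cyc a b c with hx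
  have hcomm : ∀ t, (g : Perm α) (x t) = x ((g : Perm α) t) := by
    intro t
    have := congrArg (fun z : alternatingGroup α => (z : Perm α) t) (Subgroup.mem_centralizer_singleton_iff.1 hg)
    simp [cycA, ← hx] at this
    first
      | exact this
      | exact this.symm
  -- the image of `a` is in the support
  have hga : ∃ k : ℕ, (g : Perm α) a = (x ^ k) a := by
    by_cases h1 : (g : Perm α) a = a
    · exact ⟨0, by simpa using h1⟩
    by_cases h2 : (g : Perm α) a = b
    · exact ⟨1, by simpa [hx, cyc_apply_left hab hbc] using h2⟩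
    by_cases h3 : (g : Perm α) a = c
    · exact ⟨2, by simpa [hx, pow_two, cyc_apply_left hab hbc, cyc_apply_mid] using h3⟩
    exfalso
    have := hcomm a
    rw [hx, cyc_apply_left hab hbc, cyc_apply_of_ne h1 h2 h3] at this
    exact hab ((g : Perm α).injective this).symm
  obtain ⟨k, hk⟩ := hga
  refine ⟨k, (cycA a b c hab hac ^ k)⁻¹ * g, ?_, by simp⟩
  set h : Perm α := (x ^ k)⁻¹ * (g : Perm α) with hh
  have hc' : ∀ t, h (x t) = x (h t) := by
    intro t
    simp only [hh, Perm.mul_apply, hcomm t]
    exact congrArg (fun z : Perm α => z ((g : Perm α) t))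
      (((Commute.refl x).pow_left k).inv_left.eq)
  have ha : h a = a := by simp [hh, hk]
  have hb : h b = b := by
    have := hc' a
    rwa [ha, hx, cyc_apply_left hab hbc] at this
  have hc : h c = c := by
    have := hc' b
    rwa [hb, hx, cyc_apply_mid] at this
  let p : α → Prop := fun t => t ≠ a ∧ t ≠ b ∧ t ≠ c
  have hp : ∀ t, p (h t) ↔ p t := by
    intro t
    have e : ∀ u, h u = u → (h t = u ↔ t = u) := fun u hu =>
      ⟨fun e => h.injective (e.trans hu.symm), fun e => e ▸ hu⟩
    simp only [p, ne_eq, e a ha, e b hb, e c hc]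
  have hmove : ∀ t, h t ≠ t → p t := by
    intro t ht
    exact ⟨fun e => ht (e ▸ ha), fun e => ht (e ▸ hb), fun e => ht (e ▸ hc)⟩
  have hsign : sign (h.subtypePerm hp) = 1 := by
    rw [← sign_ofSubtype, ofSubtype_subtypePerm hp hmove]
    simp [hh, hx, map_pow, sign_cyc hab hac, mem_alternatingGroup.1 g.2]
  -- the alternating group on the other points
  let θ : alternatingGroup (Subtype p) →* alternatingGroup α :=
    ((ofSubtype (p := p)).comp (alternatingGroup (Subtype p)).subtype).codRestrict (alternatingGroup α)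
      fun z => mem_alternatingGroup.2 (by simpa [sign_ofSubtype] using mem_alternatingGroup.1 z.2)
  have hθC : θ.range ≤ Subgroup.centralizer ({cycA a b c hab hac} : Set (alternatingGroup α)) := by
    rintro _ ⟨z, rfl⟩
    rw [Subgroup.mem_centralizer_singleton_iff]
    apply Subtype.ext
    refine Perm.ext fun t => ?_
    show (ofSubtype (z : Perm (Subtype p))) (cyc a b c t) = cyc a b c (ofSubtype (z : Perm (Subtype p)) t)
    by_cases ht : p t
    · rw [cyc_apply_of_ne ht.1 ht.2.1 ht.2.2, ofSubtype_apply_of_mem _ ht]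
      have := ((z : Perm (Subtype p)) ⟨t, ht⟩).2
      rw [cyc_apply_of_ne this.1 this.2.1 this.2.2]
    · rw [ofSubtype_apply_of_not_mem _ ht, ofSubtype_apply_of_not_mem]
      intro hpt
      refine ht ⟨fun e => hpt.2.1 ?_, fun e => hpt.2.2 ?_, fun e => hpt.1 ?_⟩
      · rw [e, cyc_apply_left hab hbc]
      · rw [e, cyc_apply_mid]
      · rw [e, cyc_apply_right hac hbc]
  have hmem : (cycA a b c hab hac ^ k)⁻¹ * g = θ ⟨h.subtypePerm hp, mem_alternatingGroup.2 hsign⟩ :=
    Subtype.ext (by
      show _ = ofSubtype (h.subtypePerm hp)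
      rw [ofSubtype_subtypePerm hp hmove]
      simp [hh, hx, cycA])
  have hcard : Nat.card (Subtype p) + 3 = Fintype.card α := by
    have e : (Finset.univ.filter p) = ({a, b, c} : Finset α)ᶜ := by
      ext t; simp [p]
    rw [Nat.card_eq_fintype_card, Fintype.card_subtype, e, Finset.card_compl]
    have h3 : ({a, b, c} : Finset α).card = 3 :=
      Finset.card_eq_three.2 ⟨a, b, c, hab, hac, hbc, rfl⟩
    have := Finset.card_le_univ ({a, b, c} : Finset α)
    omega
  rw [hmem]
  rcases Nat.lt_or_ge (Nat.card (Subtype p)) 5 with h5 | h5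
  · have : h.subtypePerm hp = 1 := by
      have hle : Fintype.card (Subtype p) ≤ 2 := by
        rw [← Nat.card_eq_fintype_card]; omega
      refine Perm.ext fun t => ?_
      by_contra hne
      have hsw : h.subtypePerm hp = swap t (h.subtypePerm hp t) := by
        refine Perm.ext fun u => ?_
        have : u = t ∨ u = h.subtypePerm hp t := by
          by_contra hu
          rw [not_or] at hu
          have h3 : ({t, h.subtypePerm hp t, u} : Finset (Subtype p)).card = 3 :=
            Finset.card_eq_three.2 ⟨_, _, _, Ne.symm hne, Ne.symm hu.1, Ne.symm hu.2, rfl⟩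
          have := Finset.card_le_univ ({t, h.subtypePerm hp t, u} : Finset (Subtype p))
          omega
        rcases this with rfl | rfl
        · rw [swap_apply_left]
        · rw [swap_apply_right]
          by_contra hne2
          have h3 : ({t, h.subtypePerm hp t, h.subtypePerm hp (h.subtypePerm hp t)} : Finset (Subtype p)).card = 3 :=
            Finset.card_eq_three.2 ⟨_, _, _, Ne.symm hne, Ne.symm hne2,
              fun e => hne ((h.subtypePerm hp).injective e).symm, rfl⟩
          have := Finset.card_le_univ ({t, h.subtypePerm hp t, h.subtypePerm hp (h.subtypePerm hp t)} : Finset (Subtype p))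
          omega
      have hne' : h.subtypePerm hp t ≠ t := fun e => hne (e.trans (Perm.one_apply t).symm)
      have hs := congrArg sign hsw
      rw [hsign, sign_swap hne'.symm] at hs
      exact absurd hs (by decide)
    have e1 : (⟨h.subtypePerm hp, mem_alternatingGroup.2 hsign⟩ : alternatingGroup (Subtype p)) = 1 :=
      Subtype.ext this
    rw [e1, map_one]
    exact one_mem _
  · refine Subgroup.commutator_mono hθC hθC ?_
    rw [MonoidHom.range_eq_map, ← Subgroup.map_commutator]
    refine Subgroup.mem_map_of_mem _ ?_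
    rw [← commutator_def, _root_.commutator_alternatingGroup_eq_top h5]
    exact Subgroup.mem_top _

theorem centralizer_le_closure_cubes {a b c : α} (hab : a ≠ b) (hac : a ≠ c) (hbc : b ≠ c) :
    Subgroup.centralizer ({cycA a b c hab hac} : Set (alternatingGroup α)) ≤
      Subgroup.closure {h | h ∈ Subgroup.centralizer ({cycA a b c hab hac} : Set (alternatingGroup α)) ∧
        h ^ 3 = 1} := by
  intro g hg
  classical
  set x := cyc a b c with hx
  have hcomm : ∀ t, (g : Perm α) (x t) = x ((g : Perm α) t) := by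
    intro t
    have := congrArg (fun z : alternatingGroup α => (z : Perm α) t) (Subgroup.mem_centralizer_singleton_iff.1 hg)
    simp [cycA, ← hx] at this
    first
      | exact this
      | exact this.symm
  -- the image of `a` is in the support
  have hga : ∃ k : ℕ, (g : Perm α) a = (x ^ k) a := by
    by_cases h1 : (g : Perm α) a = a
    · exact ⟨0, by simpa using h1⟩
    by_cases h2 : (g : Perm α) a = b
    · exact ⟨1, by simpa [hx, cyc_apply_left hab hbc] using h2⟩
    by_cases h3 : (g : Perm α) a = c
    · exact ⟨2, by simpa [hx, pow_two, cyc_apply_left hab hbc, cyc_apply_mid] using h3⟩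
    exfalso
    have := hcomm a
    rw [hx, cyc_apply_left hab hbc, cyc_apply_of_ne h1 h2 h3] at this
    exact hab ((g : Perm α).injective this).symm
  obtain ⟨k, hk⟩ := hga
  rw [show g = cycA a b c hab hac ^ k * ((cycA a b c hab hac ^ k)⁻¹ * g) by group]
  have hxm : cycA a b c hab hac ∈ {h | h ∈ Subgroup.centralizer ({cycA a b c hab hac} : Set (alternatingGroup α)) ∧
      h ^ 3 = 1} := ⟨Subgroup.mem_centralizer_singleton_iff.2 rfl, Subtype.ext (by
    rw [SubgroupClass.coe_pow, OneMemClass.coe_one]; exact cyc_pow_three hab hac hbc)⟩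
  refine mul_mem (pow_mem (Subgroup.subset_closure hxm) k) ?_
  set h : Perm α := (x ^ k)⁻¹ * (g : Perm α) with hh
  have hc' : ∀ t, h (x t) = x (h t) := by
    intro t
    simp only [hh, Perm.mul_apply, hcomm t]
    exact congrArg (fun z : Perm α => z ((g : Perm α) t))
      (((Commute.refl x).pow_left k).inv_left.eq)
  have ha : h a = a := by simp [hh, hk]
  have hb : h b = b := by
    have := hc' a
    rwa [ha, hx, cyc_apply_left hab hbc] at this
  have hc : h c = c := by
    have := hc' b
    rwa [hb, hx, cyc_apply_mid] at this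
  let p : α → Prop := fun t => t ≠ a ∧ t ≠ b ∧ t ≠ c
  have hp : ∀ t, p (h t) ↔ p t := by
    intro t
    have e : ∀ u, h u = u → (h t = u ↔ t = u) := fun u hu =>
      ⟨fun e => h.injective (e.trans hu.symm), fun e => e ▸ hu⟩
    simp only [p, ne_eq, e a ha, e b hb, e c hc]
  have hmove : ∀ t, h t ≠ t → p t := by
    intro t ht
    exact ⟨fun e => ht (e ▸ ha), fun e => ht (e ▸ hb), fun e => ht (e ▸ hc)⟩
  have hsign : sign (h.subtypePerm hp) = 1 := by
    rw [← sign_ofSubtype, ofSubtype_subtypePerm hp hmove]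
    simp [hh, hx, map_pow, sign_cyc hab hac, mem_alternatingGroup.1 g.2]
  -- the alternating group on the other points
  let θ : alternatingGroup (Subtype p) →* alternatingGroup α :=
    ((ofSubtype (p := p)).comp (alternatingGroup (Subtype p)).subtype).codRestrict (alternatingGroup α)
      fun z => mem_alternatingGroup.2 (by simpa [sign_ofSubtype] using mem_alternatingGroup.1 z.2)
  have hθC : θ.range ≤ Subgroup.centralizer ({cycA a b c hab hac} : Set (alternatingGroup α)) := by
    rintro _ ⟨z, rfl⟩
    rw [Subgroup.mem_centralizer_singleton_iff]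
    apply Subtype.ext
    refine Perm.ext fun t => ?_
    show (ofSubtype (z : Perm (Subtype p))) (cyc a b c t) = cyc a b c (ofSubtype (z : Perm (Subtype p)) t)
    by_cases ht : p t
    · rw [cyc_apply_of_ne ht.1 ht.2.1 ht.2.2, ofSubtype_apply_of_mem _ ht]
      have := ((z : Perm (Subtype p)) ⟨t, ht⟩).2
      rw [cyc_apply_of_ne this.1 this.2.1 this.2.2]
    · rw [ofSubtype_apply_of_not_mem _ ht, ofSubtype_apply_of_not_mem]
      intro hpt
      refine ht ⟨fun e => hpt.2.1 ?_, fun e => hpt.2.2 ?_, fun e => hpt.1 ?_⟩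
      · rw [e, cyc_apply_left hab hbc]
      · rw [e, cyc_apply_mid]
      · rw [e, cyc_apply_right hac hbc]
  have hmem : (cycA a b c hab hac ^ k)⁻¹ * g = θ ⟨h.subtypePerm hp, mem_alternatingGroup.2 hsign⟩ :=
    Subtype.ext (by
      show _ = ofSubtype (h.subtypePerm hp)
      rw [ofSubtype_subtypePerm hp hmove]
      simp [hh, hx, cycA])
  rw [hmem]
  let z : alternatingGroup (Subtype p) := ⟨h.subtypePerm hp, mem_alternatingGroup.2 hsign⟩
  have hz : z ∈ Subgroup.closure {w : alternatingGroup (Subtype p) | IsThreeCycle (w : Perm (Subtype p))} := by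
    have e : Subgroup.closure {w : alternatingGroup (Subtype p) | IsThreeCycle (w : Perm (Subtype p))} = ⊤ := by
      refine Subgroup.map_injective (alternatingGroup (Subtype p)).subtype_injective ?_
      rw [MonoidHom.map_closure, ← MonoidHom.range_eq_map, Subgroup.range_subtype]
      conv_rhs => rw [← closure_three_cycles_eq_alternating]
      congr 1
      ext σ
      exact ⟨fun ⟨w, hw, e⟩ => e ▸ hw, fun hσ => ⟨⟨σ, hσ.mem_alternatingGroup⟩, hσ, rfl⟩⟩
    exact e ▸ Subgroup.mem_top z
  refine (?_ : (Subgroup.closure {w : alternatingGroup (Subtype p) | IsThreeCycle (w : Perm (Subtype p))}).map θ ≤ _)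
    (Subgroup.mem_map_of_mem θ hz)
  rw [MonoidHom.map_closure, Subgroup.closure_le]
  rintro _ ⟨w, hw, rfl⟩
  refine Subgroup.subset_closure ⟨hθC ⟨w, rfl⟩, ?_⟩
  rw [← map_pow, show w ^ 3 = 1 from Subtype.ext (by
    rw [SubgroupClass.coe_pow, OneMemClass.coe_one, ← (show orderOf (w : Perm (Subtype p)) = 3 from hw.orderOf),
      pow_orderOf_eq_one]), map_one]

/-- A permutation fixing two given points which moves a given pair to another given pair. -/
theorem exists_pair_map {u v i j k l : α} (hij : i ≠ j) (hkl : k ≠ l)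
    (hiu : i ≠ u) (hiv : i ≠ v) (hju : j ≠ u) (hjv : j ≠ v) (hku : k ≠ u) (hkv : k ≠ v)
    (hlu : l ≠ u) (hlv : l ≠ v) :
    ∃ σ : alternatingGroup α, (σ : Perm α) u = u ∧ (σ : Perm α) v = v ∧
      (((σ : Perm α) i = k ∧ (σ : Perm α) j = l) ∨ ((σ : Perm α) i = l ∧ (σ : Perm α) j = k)) := by
  have fixes : ∀ w, i ≠ w → j ≠ w → k ≠ w → l ≠ w → (swap (swap i k j) l * swap i k : Perm α) w = w := by
    intro w h1 h2 h3 h4
    have h5 : swap i k w = w := swap_apply_of_ne_of_ne h1.symm h3.symm
    rw [Perm.mul_apply, h5, swap_apply_of_ne_of_ne _ h4.symm]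
    intro e
    exact h2 ((swap i k).injective (e.symm.trans h5.symm))
  have hk : swap i k j ≠ k := fun e => hij ((swap i k).injective (e.trans (swap_apply_left i k).symm)).symm
  set τ : Perm α := swap (swap i k j) l * swap i k with hτ
  have t1 : τ i = k := by
    rw [hτ, Perm.mul_apply, swap_apply_left, swap_apply_of_ne_of_ne hk.symm hkl]
  have t2 : τ j = l := by
    rw [hτ, Perm.mul_apply, swap_apply_left]
  rcases Int.units_eq_one_or (sign τ) with h | h
  · exact ⟨⟨τ, mem_alternatingGroup.2 h⟩, fixes u hiu hju hku hlu, fixes v hiv hjv hkv hlv, Or.inl ⟨t1, t2⟩⟩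
  · refine ⟨⟨swap k l * τ, mem_alternatingGroup.2 ?_⟩, ?_, ?_, Or.inr ⟨?_, ?_⟩⟩
    · rw [map_mul, sign_swap hkl, h]; rfl
    · show swap k l (τ u) = u
      rw [fixes u hiu hju hku hlu, swap_apply_of_ne_of_ne hku.symm hlu.symm]
    · show swap k l (τ v) = v
      rw [fixes v hiv hjv hkv hlv, swap_apply_of_ne_of_ne hkv.symm hlv.symm]
    · show swap k l (τ i) = l
      rw [t1, swap_apply_left]
    · show swap k l (τ j) = k
      rw [t2, swap_apply_right]

/-- An element swapping two given points and two others. -/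
theorem exists_double_swap {u v i j : α} (huv : u ≠ v) (hij : i ≠ j)
    (hiu : i ≠ u) (hiv : i ≠ v) (hju : j ≠ u) (hjv : j ≠ v) :
    ∃ σ : alternatingGroup α, (σ : Perm α) u = v ∧ (σ : Perm α) v = u ∧
      (σ : Perm α) i = j ∧ (σ : Perm α) j = i ∧
      ∀ t, t ≠ u → t ≠ v → t ≠ i → t ≠ j → (σ : Perm α) t = t := by
  refine ⟨⟨swap u v * swap i j, mem_alternatingGroup.2 ?_⟩, ?_, ?_, ?_, ?_, fun t a b c d => ?_⟩
  · rw [map_mul, sign_swap huv, sign_swap hij]; rfl
  all_goals show swap u v (swap i j _) = _
  · rw [swap_apply_of_ne_of_ne hiu.symm hju.symm, swap_apply_left]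
  · rw [swap_apply_of_ne_of_ne hiv.symm hjv.symm, swap_apply_right]
  · rw [swap_apply_left, swap_apply_of_ne_of_ne hju hjv]
  · rw [swap_apply_right, swap_apply_of_ne_of_ne hiu hiv]
  · rw [swap_apply_of_ne_of_ne c d, swap_apply_of_ne_of_ne a b]

/-- The product of two three-cycles on a common pair is an involution. -/
theorem cyc_mul_cyc_sq {u v p q : α} (huv : u ≠ v) (hpu : p ≠ u) (hpv : p ≠ v) (hqu : q ≠ u)
    (hqv : q ≠ v) (hpq : p ≠ q) : (cyc u v p * cyc u v q) ^ 2 = 1 := by
  ext t
  by_cases ha : t = u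
  · subst ha
    simp [pow_two, cyc_apply_left huv hqv.symm, cyc_apply_mid, cyc_apply_of_ne hpu hpv hpq,
      cyc_apply_right hpu.symm hpv.symm]
  by_cases hb : t = v
  · subst hb
    simp [pow_two, cyc_apply_mid, cyc_apply_of_ne hqu hqv hpq.symm, cyc_apply_right hqu.symm hqv.symm,
      cyc_apply_left huv hpv.symm]
  by_cases hc : t = p
  · subst hc
    simp [pow_two, cyc_apply_of_ne hpu hpv hpq, cyc_apply_right hpu.symm hpv.symm,
      cyc_apply_left huv hqv.symm, cyc_apply_mid]
  by_cases hd : t = q
  · subst hd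
    simp [pow_two, cyc_apply_right hqu.symm hqv.symm, cyc_apply_left huv hpv.symm, cyc_apply_mid,
      cyc_apply_of_ne hqu hqv hpq.symm]
  simp [pow_two, cyc_apply_of_ne ha hb hc, cyc_apply_of_ne ha hb hd]

/-- The three-cycles through two fixed points generate. -/
theorem closure_cycA_eq_top {u v : α} (huv : u ≠ v) (L : Subgroup (alternatingGroup α))
    (hL : ∀ i (hiu : i ≠ u), i ≠ v → cycA u v i huv hiu.symm ∈ L) : L = ⊤ := by
  set M := L.map (alternatingGroup α).subtype with hM
  have g1 : ∀ i, i ≠ u → swap u i * swap u v ∈ M := by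
    intro i hiu
    by_cases hiv : i = v
    · subst hiv; rw [swap_mul_self]; exact one_mem _
    · exact Subgroup.mem_map_of_mem _ (hL i hiu hiv)
  have g2 : ∀ i, i ≠ u → swap u v * swap u i ∈ M := fun i hiu => by
    simpa [mul_inv_rev] using inv_mem (g1 i hiu)
  let P : Perm α → Prop := fun σ => σ ∈ M ∨ σ * swap u v ∈ M
  have step : ∀ σ i, i ≠ u → P σ → P (σ * swap u i) := by
    rintro σ i hiu (h | h)
    · refine Or.inr ?_
      rw [mul_assoc]; exact mul_mem h (g1 i hiu)
    · refine Or.inl ?_
      have := mul_mem h (g2 i hiu)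
      rwa [mul_assoc, swap_mul_self_mul] at this
  have all : ∀ σ : Perm α, P σ := by
    intro σ
    induction σ using swap_induction_on' with
    | one => exact Or.inl (one_mem _)
    | mul_swap f x y hxy ih =>
      by_cases hx : x = u
      · subst hx; exact step f y hxy.symm ih
      by_cases hy : y = u
      · subst hy; rw [swap_comm]; exact step f x hx ih
      have : swap x y = swap u x * swap u y * swap u x := by
        have e := Equiv.swap_apply_apply (swap u x) u y
        rw [swap_apply_left, swap_apply_of_ne_of_ne hy hxy.symm, swap_inv] at e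
        exact e
      rw [this, ← mul_assoc, ← mul_assoc]
      exact step _ x hx (step _ y hy (step f x hx ih))
  refine eq_top_iff.2 fun g _ => ?_
  rcases all (g : Perm α) with h | h
  · obtain ⟨g', hg', e⟩ := h
    exact Subtype.ext e ▸ hg'
  · exfalso
    obtain ⟨g', -, e⟩ := h
    have := congrArg sign e
    simp [mem_alternatingGroup.1 g'.2, mem_alternatingGroup.1 g.2, sign_swap huv] at this

end Cfsg.Agent.AltMult
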