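import Cfsg.Agent.AltMult.Pres
import Cfsg.Agent.AltMult.Alt

/-!
# The Schur multiplier of an alternating group has order at most two
-/

set_option autoImplicit false

namespace Cfsg.Agent.AltMult

open Equiv
open scoped commutatorElement

theorem closure_eq_top {Γ Q : Type*} [Group Γ] [Group Q] (π : Γ →* Q)
    (hc : π.ker ≤ Subgroup.center Γ) (hd : π.ker ≤ commutator Γ) (L : Subgroup Γ)
    (hL : L.map π = ⊤) : L = ⊤ := by
  have hdec : ∀ g : Γ, ∃ l ∈ L, ∃ z ∈ π.ker, g = l * z := by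
    intro g
    obtain ⟨l, hl, e⟩ := (hL ▸ Subgroup.mem_top (π g) : π g ∈ L.map π)
    exact ⟨l, hl, l⁻¹ * g, by simp [MonoidHom.mem_ker, e], by group⟩
  have hcomm : commutator Γ ≤ L := by
    rw [commutator_def, Subgroup.commutator_le]
    intro a _ b _
    obtain ⟨l, hl, z, hz, rfl⟩ := hdec a
    obtain ⟨l', hl', z', hz', rfl⟩ := hdec b
    have e : ⁅l * z, l' * z'⁆ = ⁅l, l'⁆ := by
      have cz : ∀ t, t * z = z * t := fun t => Subgroup.mem_center_iff.1 (hc hz) t
      have cz' : ∀ t, t * z' = z' * t := fun t => Subgroup.mem_center_iff.1 (hc hz') t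
      calc ⁅l * z, l' * z'⁆ = l * (z * (l' * z') * z⁻¹) * l⁻¹ * (l' * z')⁻¹ := by
            rw [commutatorElement_def]; group
        _ = l * (l' * z') * l⁻¹ * (l' * z')⁻¹ := by
            rw [← cz (l' * z'), mul_inv_cancel_right]
        _ = l * l' * (z' * l⁻¹ * z'⁻¹) * l'⁻¹ := by group
        _ = ⁅l, l'⁆ := by
            rw [← cz' l⁻¹, mul_inv_cancel_right, commutatorElement_def]
    rw [e, commutatorElement_def]
    exact mul_mem (mul_mem (mul_mem hl hl') (inv_mem hl)) (inv_mem hl')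
  refine eq_top_iff.2 fun g _ => ?_
  obtain ⟨l, hl, z, hz, rfl⟩ := hdec g
  exact mul_mem hl (hcomm (hd hz))

variable {Γ : Type*} [Group Γ] {m : ℕ}

/-- An element centralising the image of `y` centralises `y`. -/
theorem commute_of_map_commute (π : Γ →* alternatingGroup (Fin (m + 2))) (hsurj : Function.Surjective π)
    (hc : π.ker ≤ Subgroup.center Γ) (h4 : m ≠ 4) (h5 : m ≠ 5) {a b c : Fin (m + 2)} (hab : a ≠ b)
    (hac : a ≠ c) (hbc : b ≠ c) {y g : Γ} (hy : π y = cycA a b c hab hac)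
    (hg : π g * π y = π y * π g) : g * y = y * g := by
  set x := cycA a b c hab hac
  set C := (Subgroup.centralizer ({x} : Set (alternatingGroup (Fin (m + 2))))).comap π
  have hC : ∀ u ∈ C, ∃ z ∈ Subgroup.center Γ, u * y * u⁻¹ = z * y := by
    intro u hu
    refine ⟨u * y * u⁻¹ * y⁻¹, hc ?_, by group⟩
    have := Subgroup.mem_centralizer_singleton_iff.1 hu
    simp only [MonoidHom.mem_ker, map_mul, map_inv, hy]
    rw [show π u * cycA a b c hab hac = cycA a b c hab hac * π u from this]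
    group
    simp [x]
  have hCC : ∀ u ∈ ⁅C, C⁆, u * y * u⁻¹ = y := by
    have : ⁅C, C⁆ ≤ Subgroup.centralizer ({y} : Set Γ) := by
      rw [Subgroup.commutator_le]
      intro u hu v hv
      obtain ⟨z, hz, ez⟩ := hC u hu
      obtain ⟨w, hw, ew⟩ := hC v hv
      rw [Subgroup.mem_centralizer_singleton_iff]
      have cz : ∀ t, t * z = z * t := fun t => Subgroup.mem_center_iff.1 hz t
      have cw : ∀ t, t * w = w * t := fun t => Subgroup.mem_center_iff.1 hw t
      set A := u * v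
      set B := v * u
      set c := w * z
      have hcc : c ∈ Subgroup.center Γ := mul_mem hw hz
      have hA : A * y * A⁻¹ = c * y := by
        calc A * y * A⁻¹ = u * (v * y * v⁻¹) * u⁻¹ := by simp only [A]; group
          _ = u * w * (y * u⁻¹) := by rw [ew]; group
          _ = w * (u * y * u⁻¹) := by rw [cw u]; group
          _ = c * y := by rw [ez, mul_assoc]
      have hB : B * y * B⁻¹ = c * y := by
        calc B * y * B⁻¹ = v * (u * y * u⁻¹) * v⁻¹ := by simp only [B]; group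
          _ = v * z * (y * v⁻¹) := by rw [ez]; group
          _ = z * (v * y * v⁻¹) := by rw [cz v]; group
          _ = c * y := by rw [ew, ← mul_assoc]; simp only [c]; rw [cw z]
      have hB' : B⁻¹ * y * B = c⁻¹ * y := by
        have cc : B⁻¹ * c = c * B⁻¹ := Subgroup.mem_center_iff.1 hcc _
        calc B⁻¹ * y * B = c⁻¹ * (c * B⁻¹ * y * B) := by group
          _ = c⁻¹ * (B⁻¹ * (c * y) * B) := by rw [← cc]; group
          _ = c⁻¹ * y := by rw [← hB]; group
      have hAB : ⁅u, v⁆ = A * B⁻¹ := by rw [commutatorElement_def]; simp only [A, B]; group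
      have hAc : A * c⁻¹ = c⁻¹ * A := Subgroup.mem_center_iff.1 (inv_mem hcc) _
      rw [hAB]
      calc A * B⁻¹ * y = A * (B⁻¹ * y * B) * B⁻¹ := by group
        _ = c⁻¹ * (A * y * A⁻¹) * (A * B⁻¹) := by rw [hB', ← mul_assoc A, hAc]; group
        _ = y * (A * B⁻¹) := by rw [hA]; group
    intro u hu
    rw [Subgroup.mem_centralizer_singleton_iff.1 (this hu), mul_inv_cancel_right]
  have hg' : π g ∈ Subgroup.centralizer ({x} : Set (alternatingGroup (Fin (m + 2)))) := by
    rw [Subgroup.mem_centralizer_singleton_iff, ← hy]; exact hg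
  obtain ⟨k, h, hh, e⟩ := exists_centralizer_decomp hab hac hbc (by simp; omega) (by simp; omega) _ hg'
  have hmap : ⁅C, C⁆.map π = ⁅Subgroup.centralizer ({x} : Set (alternatingGroup (Fin (m + 2)))),
      Subgroup.centralizer ({x} : Set (alternatingGroup (Fin (m + 2))))⁆ := by
    rw [Subgroup.map_commutator, Subgroup.map_comap_eq_self_of_surjective hsurj]
  rw [← hmap] at hh
  obtain ⟨u, hu, rfl⟩ := hh
  have hz : (y ^ k * u)⁻¹ * g ∈ Subgroup.center Γ := hc (by
    simp only [MonoidHom.mem_ker, map_mul, map_inv, map_pow, hy]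
    rw [e]
    exact inv_mul_cancel _)
  have huy : u * y = y * u := by
    calc u * y = u * y * u⁻¹ * u := by group
      _ = y * u := by rw [hCC u hu]
  have h1 : Commute (y ^ k * u) y := (Commute.pow_self y k).mul_left huy
  have h2 : Commute ((y ^ k * u)⁻¹ * g) y := (Subgroup.mem_center_iff.1 hz y).symm
  have h3 := h1.mul_left h2
  rw [mul_inv_cancel_left] at h3
  exact h3

/-- The point `i + 2`. -/
def pt (m i : ℕ) : Fin (m + 2) := if h : i + 2 < m + 2 then ⟨i + 2, h⟩ else 0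

theorem pt_val {i : ℕ} (hi : i < m) : (pt m i).val = i + 2 := by
  simp [pt, hi]

theorem pt_ne_zero {i : ℕ} (hi : i < m) : pt m i ≠ 0 := fun e => by
  have := congrArg Fin.val e; rw [pt_val hi] at this; simp at this

theorem pt_ne_one {i : ℕ} (hi : i < m) : pt m i ≠ 1 := fun e => by
  have := congrArg Fin.val e; rw [pt_val hi] at this; simp at this

theorem pt_inj {i j : ℕ} (hi : i < m) (hj : j < m) (e : pt m i = pt m j) : i = j := by
  have := congrArg Fin.val e; rw [pt_val hi, pt_val hj] at this; omega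

theorem zero_ne_one' : (0 : Fin (m + 2)) ≠ 1 := by simp

/-- The generators `(0 1 i+2)`. -/
def gen (m i : ℕ) : alternatingGroup (Fin (m + 2)) :=
  if h : i < m then cycA 0 1 (pt m i) zero_ne_one' (pt_ne_zero h).symm else 1

theorem gen_val {i : ℕ} (hi : i < m) : (gen m i : Perm (Fin (m + 2))) = cyc 0 1 (pt m i) := by
  simp [gen, hi, cycA]

theorem gen_eq {i : ℕ} (hi : i < m) :
    gen m i = cycA 0 1 (pt m i) zero_ne_one' (pt_ne_zero hi).symm := dif_pos hi

theorem gen_mul_sq {i j : ℕ} (hi : i < m) (hj : j < m) (hij : i ≠ j) :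
    (gen m i * gen m j) ^ 2 = 1 := by
  apply Subtype.ext
  rw [SubgroupClass.coe_pow, Subgroup.coe_mul, gen_val hi, gen_val hj, OneMemClass.coe_one]
  exact cyc_mul_cyc_sq zero_ne_one' (pt_ne_zero hi) (pt_ne_one hi) (pt_ne_zero hj) (pt_ne_one hj)
    fun e => hij (pt_inj hi hj e)

theorem gen_closure (L : Subgroup (alternatingGroup (Fin (m + 2)))) (hL : ∀ i < m, gen m i ∈ L) :
    L = ⊤ := by
  refine closure_cycA_eq_top zero_ne_one' L fun i hi0 hi1 => ?_
  have h2 : 2 ≤ i.val := by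
    rcases i with ⟨v, hv⟩
    rcases v with _ | _ | v
    · exact absurd rfl hi0
    · exact absurd rfl hi1
    · simp
  have hlt : i.val - 2 < m := by have := i.isLt; omega
  have e : pt m (i.val - 2) = i := Fin.ext (by rw [pt_val hlt]; omega)
  have := hL _ hlt
  rw [gen_eq hlt] at this
  convert this using 2
  simp only [cycA, e]

/-- Bound on a finite group with generators lifting the three-cycles and satisfying the relations
modulo a central subgroup. -/
theorem card_ker_le_of_closure [Finite Γ] (π : Γ →* alternatingGroup (Fin (m + 2))) (hsurj : Function.Surjective π)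
    (y : ℕ → Γ) (hL : Subgroup.closure (y '' Set.Iio m) = ⊤)
    (hy : ∀ i < m, π (y i) = gen m i) (h3 : ∀ i < m, y i ^ 3 = 1) (b : Γ) (hb2 : b ^ 2 = 1)
    (hbc : b ∈ Subgroup.center Γ) (hb : ∀ i j, i < m → j < m → i ≠ j → (y i * y j) ^ 2 = b) :
    Nat.card π.ker ≤ 2 := by
  classical
  set B := Subgroup.zpowers b
  have hBc : B ≤ Subgroup.center Γ := Subgroup.zpowers_le.2 hbc
  have hBn : B.Normal := ⟨fun x hx g => by
    rw [Subgroup.mem_center_iff.1 (hBc hx) g, mul_inv_cancel_right]; exact hx⟩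
  have hK := two_mul_card_closure_le m (fun i => (QuotientGroup.mk' B) (y i))
    (fun i hi => by rw [← map_pow, h3 i hi, map_one])
    (fun i j hi hj hij => by
      rw [← map_mul, ← map_pow, hb i j hi hj hij]
      exact (QuotientGroup.eq_one_iff b).2 (Subgroup.mem_zpowers b))
  rw [show (fun i => (QuotientGroup.mk' B) (y i)) '' Set.Iio m =
      (QuotientGroup.mk' B) '' (y '' Set.Iio m) by rw [Set.image_image],
    ← MonoidHom.map_closure, hL,
    Subgroup.map_top_of_surjective _ (QuotientGroup.mk'_surjective B), Subgroup.card_top] at hK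
  have hB : Nat.card B ≤ 2 := by
    rw [Nat.card_zpowers]
    exact Nat.le_of_dvd two_pos (orderOf_dvd_of_pow_eq_one hb2)
  have hA : 2 * Nat.card (alternatingGroup (Fin (m + 2))) = (m + 2).factorial := by
    rw [two_mul_nat_card_alternatingGroup, Nat.card_perm, Nat.card_fin]
  have h1 : Nat.card Γ = Nat.card (alternatingGroup (Fin (m + 2))) * Nat.card π.ker := by
    rw [Subgroup.card_eq_card_quotient_mul_card_subgroup π.ker,
      Nat.card_congr (QuotientGroup.quotientKerEquivOfSurjective π hsurj).toEquiv]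
  have h2 : Nat.card Γ = Nat.card (Γ ⧸ B) * Nat.card B :=
    Subgroup.card_eq_card_quotient_mul_card_subgroup B
  have hpos : 0 < Nat.card (alternatingGroup (Fin (m + 2))) := Nat.card_pos
  refine Nat.le_of_mul_le_mul_left ?_ hpos
  calc Nat.card (alternatingGroup (Fin (m + 2))) * Nat.card π.ker
      = Nat.card (Γ ⧸ B) * Nat.card B := h1.symm.trans h2
    _ ≤ Nat.card (alternatingGroup (Fin (m + 2))) * 2 :=
      Nat.mul_le_mul (by omega) hB

theorem card_ker_le [Finite Γ] (π : Γ →* alternatingGroup (Fin (m + 2))) (hsurj : Function.Surjective π)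
    (hc : π.ker ≤ Subgroup.center Γ) (hd : π.ker ≤ commutator Γ) (y : ℕ → Γ)
    (hy : ∀ i < m, π (y i) = gen m i) (h3 : ∀ i < m, y i ^ 3 = 1) (b : Γ) (hb2 : b ^ 2 = 1)
    (hbc : b ∈ Subgroup.center Γ) (hb : ∀ i j, i < m → j < m → i ≠ j → (y i * y j) ^ 2 = b) :
    Nat.card π.ker ≤ 2 := by
  refine card_ker_le_of_closure π hsurj y ?_ hy h3 b hb2 hbc hb
  refine closure_eq_top π hc hd _ (gen_closure _ fun i hi => ?_)
  exact ⟨y i, Subgroup.subset_closure ⟨i, hi, rfl⟩, hy i hi⟩

theorem card_ker_le_large_of [Finite Γ] (π : Γ →* alternatingGroup (Fin (m + 2)))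
    (hsurj : Function.Surjective π) (hc : π.ker ≤ Subgroup.center Γ) (hd : π.ker ≤ commutator Γ)
    (hm : 3 ≤ m)
    (hequiv : ∀ y g : Γ, π y = gen m 0 → π g * π y = π y * π g → g * y = y * g) :
    Nat.card π.ker ≤ 2 := by
  have h0 : (0 : ℕ) < m := by omega
  have conj : ∀ σ : alternatingGroup (Fin (m + 2)), ∀ a b c hab hac hab' hac',
      σ * cycA a b c hab hac * σ⁻¹ = cycA ((σ : Perm (Fin (m + 2))) a) ((σ : Perm (Fin (m + 2))) b)
        ((σ : Perm (Fin (m + 2))) c) hab' hac' := by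
    intro σ a b c hab hac hab' hac'
    exact Subtype.ext (conj_cyc _ a b c)
  -- a lift inverted by an element
  obtain ⟨Y, hY⟩ := hsurj (gen m 0)
  have hne : pt m 1 ≠ pt m 2 := fun e => absurd (pt_inj (by omega) (by omega) e) (by omega)
  obtain ⟨τ, t0, t1, -, -, t2⟩ := exists_double_swap (α := Fin (m + 2)) zero_ne_one'
    hne (pt_ne_zero (show 1 < m by omega)) (pt_ne_one (show 1 < m by omega))
    (pt_ne_zero (show 2 < m by omega)) (pt_ne_one (show 2 < m by omega))
  have hτ : τ * gen m 0 * τ⁻¹ = (gen m 0)⁻¹ := by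
    rw [gen_eq h0]
    apply Subtype.ext
    show (τ : Perm (Fin (m + 2))) * cyc _ _ _ * (τ : Perm (Fin (m + 2)))⁻¹ = (cyc _ _ _)⁻¹
    rw [conj_cyc, t0, t1, cyc_inv zero_ne_one' (pt_ne_zero h0).symm (pt_ne_one h0).symm]
    rw [t2 _ (pt_ne_zero h0) (pt_ne_one h0) (fun e => absurd (pt_inj h0 (by omega) e) (by omega))
      (fun e => absurd (pt_inj h0 (by omega) e) (by omega))]
  obtain ⟨u, hu⟩ := hsurj τ
  set z0 := Y * (u * Y * u⁻¹) with hz0
  set a := Y ^ 3 with ha
  have hz0k : z0 ∈ π.ker := by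
    simp [MonoidHom.mem_ker, hz0, hY, hu, hτ]
  have hak : a ∈ π.ker := by
    rw [MonoidHom.mem_ker, ha, map_pow, hY]
    apply Subtype.ext
    rw [SubgroupClass.coe_pow, gen_val h0, OneMemClass.coe_one]
    exact cyc_pow_three zero_ne_one' (pt_ne_zero h0).symm (pt_ne_one h0).symm
  have hz0c := hc hz0k
  have hac := hc hak
  have hconj : u * Y * u⁻¹ = Y⁻¹ * z0 := by rw [hz0]; group
  have cz : Commute Y⁻¹ z0 := Subgroup.mem_center_iff.1 hz0c Y⁻¹
  -- `z0 ^ 3 = a ^ 2`
  have hz3 : z0 ^ 3 = a ^ 2 := by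
    have e1 : u * a * u⁻¹ = a := by rw [Subgroup.mem_center_iff.1 hac u, mul_inv_cancel_right]
    have e2 : u * a * u⁻¹ = a⁻¹ * z0 ^ 3 := by
      rw [ha, ← conj_pow, hconj, cz.mul_pow, inv_pow]
    rw [e1] at e2
    rw [pow_two]
    nth_rewrite 2 [e2]
    rw [mul_inv_cancel_left]
  set w := z0 * a⁻¹ with hw
  have hwc : w ∈ Subgroup.center Γ := mul_mem hz0c (inv_mem hac)
  have hw3 : a * w ^ 3 = 1 := by
    rw [hw, (Commute.inv_right (Subgroup.mem_center_iff.1 hac z0)).mul_pow, hz3]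
    rw [show a ^ 2 = a * a from pow_two a, inv_pow, pow_three]
    group
  set Y' := Y * w with hY'
  have hY'3 : Y' ^ 3 = 1 := by
    rw [hY', (show Commute Y w from Subgroup.mem_center_iff.1 hwc Y).mul_pow, ← ha, hw3]
  have hY'u : u * Y' * u⁻¹ = Y'⁻¹ := by
    have e : u * Y' * u⁻¹ = Y⁻¹ * z0 * w := by
      rw [hY', ← conj_mul, hconj, Subgroup.mem_center_iff.1 hwc u, mul_inv_cancel_right]
    rw [e, hY', mul_inv_rev]
    have hcw : Y⁻¹ * w⁻¹ = w⁻¹ * Y⁻¹ := Subgroup.mem_center_iff.1 (inv_mem hwc) Y⁻¹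
    rw [← hcw, mul_assoc]
    congr 1
    apply eq_inv_of_mul_eq_one_left
    have : z0 * w * w = z0 ^ 3 * (a⁻¹ * a⁻¹) := by
      rw [hw]
      simp only [pow_three, mul_assoc]
      rw [← mul_assoc a⁻¹ z0, Subgroup.mem_center_iff.1 hz0c a⁻¹, mul_assoc z0 a⁻¹ a⁻¹]
    rw [this, hz3, pow_two]
    group
  have hY'π : π Y' = gen m 0 := by
    rw [hY', map_mul, hY, show π w = 1 from (mul_mem hz0k (inv_mem hak) : w ∈ π.ker), mul_one]
  have hcent : ∀ g, π g * π Y' = π Y' * π g → g * Y' = Y' * g := fun g hg => hequiv Y' g hY'π hg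
  -- the other lifts
  have hex : ∀ i, ∃ g : Γ, i < m → π g * gen m 0 * (π g)⁻¹ = gen m i := by
    intro i
    by_cases hi : i < m
    · obtain ⟨σ, s0, s1, hs⟩ : ∃ σ : alternatingGroup (Fin (m + 2)), (σ : Perm (Fin (m + 2))) 0 = 0 ∧
          (σ : Perm (Fin (m + 2))) 1 = 1 ∧ (σ : Perm (Fin (m + 2))) (pt m 0) = pt m i := by
        obtain ⟨j, hj, hji⟩ : ∃ j, j < m ∧ j ≠ i := by
          by_cases h : i = 1
          · exact ⟨0, h0, by omega⟩
          · exact ⟨1, by omega, fun e => h e.symm⟩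
        have h01 : pt m 0 ≠ pt m 1 := fun e => absurd (pt_inj h0 (by omega) e) (by omega)
        have hij : pt m i ≠ pt m j := fun e => hji (pt_inj hi hj e).symm
        obtain ⟨σ, s0, s1, h | h⟩ := exists_pair_map (u := (0 : Fin (m + 2))) (v := 1) h01 hij
          (pt_ne_zero h0) (pt_ne_one h0) (pt_ne_zero (by omega)) (pt_ne_one (by omega))
          (pt_ne_zero hi) (pt_ne_one hi) (pt_ne_zero hj) (pt_ne_one hj)
        · exact ⟨σ, s0, s1, h.1⟩
        · -- repair by swapping back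
          obtain ⟨k, hk, hk1, hk2⟩ : ∃ k, k < m ∧ k ≠ i ∧ k ≠ j := by
            by_cases e0 : i ≠ 0 ∧ j ≠ 0
            · exact ⟨0, h0, fun e => e0.1 e.symm, fun e => e0.2 e.symm⟩
            by_cases e1 : i ≠ 1 ∧ j ≠ 1
            · exact ⟨1, by omega, fun e => e1.1 e.symm, fun e => e1.2 e.symm⟩
            exact ⟨2, by omega, by omega, by omega⟩
          have n1 : pt m i ≠ pt m k := fun e => hk1 (pt_inj hi hk e).symm
          have n2 : pt m j ≠ pt m k := fun e => hk2 (pt_inj hj hk e).symm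
          refine ⟨⟨cyc (pt m j) (pt m i) (pt m k), Equiv.Perm.mem_alternatingGroup.2
            (sign_cyc hij.symm n2)⟩ * σ, ?_, ?_, ?_⟩
          · show cyc _ _ _ ((σ : Perm (Fin (m + 2))) 0) = 0
            rw [s0, cyc_apply_of_ne (pt_ne_zero hj).symm (pt_ne_zero hi).symm (pt_ne_zero hk).symm]
          · show cyc _ _ _ ((σ : Perm (Fin (m + 2))) 1) = 1
            rw [s1, cyc_apply_of_ne (pt_ne_one hj).symm (pt_ne_one hi).symm (pt_ne_one hk).symm]
          · show cyc _ _ _ ((σ : Perm (Fin (m + 2))) (pt m 0)) = _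
            rw [h.1, cyc_apply_left hij.symm n1]
      obtain ⟨g, rfl⟩ := hsurj σ
      refine ⟨g, fun _ => Subtype.ext ?_⟩
      show (π g : Perm (Fin (m + 2))) * _ * (π g : Perm (Fin (m + 2)))⁻¹ = _
      rw [gen_val h0, gen_val hi, conj_cyc, s0, s1, hs]
    · exact ⟨1, fun h => absurd h hi⟩
  choose g hg using hex
  set y : ℕ → Γ := fun i => g i * Y' * (g i)⁻¹
  have hyπ : ∀ i < m, π (y i) = gen m i := fun i hi => by simp [y, hY'π, hg i hi]
  -- equivariance
  have heq : ∀ i j, i < m → j < m → ∀ h : Γ, π h * gen m i * (π h)⁻¹ = gen m j →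
      h * y i * h⁻¹ = y j := by
    intro i j hi hj h hh
    have hh' : π ((g j)⁻¹ * h * g i) * π Y' = π Y' * π ((g j)⁻¹ * h * g i) := by
      rw [← mul_inv_eq_iff_eq_mul]
      simp only [map_mul, map_inv, mul_inv_rev, inv_inv, hY'π]
      calc (π (g j))⁻¹ * π h * π (g i) * gen m 0 * ((π (g i))⁻¹ * ((π h)⁻¹ * π (g j)))
          = (π (g j))⁻¹ * (π h * (π (g i) * gen m 0 * (π (g i))⁻¹) * (π h)⁻¹) * π (g j) := by group
        _ = gen m 0 := by rw [hg i hi, hh, ← hg j hj]; group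
    have := hcent _ hh'
    calc h * y i * h⁻¹ = g j * (((g j)⁻¹ * h * g i) * Y') * ((g j)⁻¹ * h * g i)⁻¹ * (g j)⁻¹ := by
          simp only [y]; group
      _ = y j := by rw [this]; simp only [y]; group
  have heqinv : ∀ i j, i < m → j < m → ∀ h : Γ, π h * gen m i * (π h)⁻¹ = (gen m j)⁻¹ →
      h * y i * h⁻¹ = (y j)⁻¹ := by
    intro i j hi hj h hh
    set v := g j * u * (g j)⁻¹
    have hv : v * y j * v⁻¹ = (y j)⁻¹ := by
      calc v * y j * v⁻¹ = g j * (u * Y' * u⁻¹) * (g j)⁻¹ := by simp only [v, y]; group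
        _ = (y j)⁻¹ := by rw [hY'u]; simp only [y]; group
    have hvπ : π v * gen m j * (π v)⁻¹ = (gen m j)⁻¹ := by
      have := congrArg π hv
      simpa [hyπ j hj] using this
    have h' : π (v⁻¹ * h) * gen m i * (π (v⁻¹ * h))⁻¹ = gen m j := by
      rw [map_mul, map_inv]
      calc (π v)⁻¹ * π h * gen m i * ((π v)⁻¹ * π h)⁻¹ = (π v)⁻¹ * (π h * gen m i * (π h)⁻¹) * π v := by group
        _ = gen m j := by rw [hh, ← hvπ]; group
    have := heq i j hi hj _ h'
    calc h * y i * h⁻¹ = v * (v⁻¹ * h * y i * (v⁻¹ * h)⁻¹) * v⁻¹ := by group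
      _ = (y j)⁻¹ := by rw [this, hv]
  -- the constant
  have hker : ∀ i j, i < m → j < m → i ≠ j → (y i * y j) ^ 2 ∈ π.ker := by
    intro i j hi hj hij
    rw [MonoidHom.mem_ker, map_pow, map_mul, hyπ i hi, hyπ j hj]
    exact gen_mul_sq hi hj hij
  have hsymm : ∀ i j, i < m → j < m → i ≠ j → (y j * y i) ^ 2 = (y i * y j) ^ 2 := by
    intro i j hi hj hij
    have hc' := Subgroup.mem_center_iff.1 (hc (hker i j hi hj hij)) (y i)⁻¹
    calc (y j * y i) ^ 2 = (y i)⁻¹ * (y i * y j) ^ 2 * y i := by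
          simp only [pow_two]; group
      _ = _ := by rw [hc', inv_mul_cancel_right]
  set b := (y 0 * y 1) ^ 2 with hbdef
  have hbk : b ∈ π.ker := hker 0 1 h0 (by omega) (by omega)
  have hbc := hc hbk
  have hb : ∀ i j, i < m → j < m → i ≠ j → (y i * y j) ^ 2 = b := by
    intro i j hi hj hij
    have h01 : pt m 0 ≠ pt m 1 := fun e => absurd (pt_inj h0 (by omega) e) (by omega)
    have hne' : pt m i ≠ pt m j := fun e => hij (pt_inj hi hj e)
    obtain ⟨σ, s0, s1, hs⟩ := exists_pair_map (u := (0 : Fin (m + 2))) (v := 1) h01 hne'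
      (pt_ne_zero h0) (pt_ne_one h0) (pt_ne_zero (by omega)) (pt_ne_one (by omega))
      (pt_ne_zero hi) (pt_ne_one hi) (pt_ne_zero hj) (pt_ne_one hj)
    obtain ⟨h, rfl⟩ := hsurj σ
    have hmap : ∀ p q, p < m → q < m → (π h : Perm (Fin (m + 2))) (pt m p) = pt m q →
        h * y p * h⁻¹ = y q := fun p q hp hq e => heq p q hp hq h (Subtype.ext (by
      show (π h : Perm (Fin (m + 2))) * _ * (π h : Perm (Fin (m + 2)))⁻¹ = _
      rw [gen_val hp, gen_val hq, conj_cyc, s0, s1, e]))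
    have hbh : h * b * h⁻¹ = b := by rw [Subgroup.mem_center_iff.1 hbc h, mul_inv_cancel_right]
    rw [hbdef, ← conj_pow, ← conj_mul, ← hbdef] at hbh
    rcases hs with ⟨e1, e2⟩ | ⟨e1, e2⟩
    · rw [hmap 0 i h0 hi e1, hmap 1 j (by omega) hj e2] at hbh; exact hbh
    · rw [hmap 0 j h0 hj e1, hmap 1 i (by omega) hi e2, hsymm i j hi hj hij] at hbh; exact hbh
  have hb2 : b ^ 2 = 1 := by
    have h01 : pt m 0 ≠ pt m 1 := fun e => absurd (pt_inj h0 (by omega) e) (by omega)
    obtain ⟨σ, s0, s1, s2, s3, -⟩ := exists_double_swap (α := Fin (m + 2)) zero_ne_one' h01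
      (pt_ne_zero h0) (pt_ne_one h0) (pt_ne_zero (show 1 < m by omega)) (pt_ne_one (show 1 < m by omega))
    obtain ⟨h, rfl⟩ := hsurj σ
    have hmap : ∀ p q, p < m → q < m → (π h : Perm (Fin (m + 2))) (pt m p) = pt m q →
        h * y p * h⁻¹ = (y q)⁻¹ := fun p q hp hq e => heqinv p q hp hq h (Subtype.ext (by
      show (π h : Perm (Fin (m + 2))) * _ * (π h : Perm (Fin (m + 2)))⁻¹ = ((gen m q : Perm (Fin (m + 2))))⁻¹
      rw [gen_val hp, gen_val hq, conj_cyc, s0, s1, e,
        cyc_inv zero_ne_one' (pt_ne_zero hq).symm (pt_ne_one hq).symm]))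
    have hbh : h * b * h⁻¹ = b := by rw [Subgroup.mem_center_iff.1 hbc h, mul_inv_cancel_right]
    rw [hbdef, ← conj_pow, ← conj_mul, hmap 0 1 h0 (by omega) s2, hmap 1 0 (by omega) h0 s3,
      ← mul_inv_rev, inv_pow, ← hbdef] at hbh
    rw [pow_two]
    nth_rewrite 1 [← hbh]
    exact inv_mul_cancel b
  exact card_ker_le π hsurj hc hd y hyπ (fun i hi => by simp [y, conj_pow, hY'3]) b hb2 hbc hb

theorem card_ker_le_large [Finite Γ] (π : Γ →* alternatingGroup (Fin (m + 2)))
    (hsurj : Function.Surjective π) (hc : π.ker ≤ Subgroup.center Γ) (hd : π.ker ≤ commutator Γ)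
    (hm : 3 ≤ m) (h4 : m ≠ 4) (h5 : m ≠ 5) : Nat.card π.ker ≤ 2 :=
  card_ker_le_large_of π hsurj hc hd hm fun _ _ hy hg =>
    commute_of_map_commute π hsurj hc h4 h5 zero_ne_one' (pt_ne_zero (show 0 < m by omega)).symm
      (pt_ne_one (show 0 < m by omega)).symm (hy.trans (gen_eq (by omega))) hg

end Cfsg.Agent.AltMult
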