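import Cfsg.Agent.AltMult.Main

/-!
# The Schur multiplier of the alternating group of degree four
-/

set_option autoImplicit false

namespace Cfsg.Agent.AltMult

open scoped commutatorElement

theorem card_ker_le_four {Γ : Type*} [Group Γ] [Finite Γ] (π : Γ →* alternatingGroup (Fin 4))
    (hsurj : Function.Surjective π) (hc : π.ker ≤ Subgroup.center Γ) (hd : π.ker ≤ commutator Γ) :
    Nat.card π.ker ≤ 2 := by
  classical
  have hα : Nat.card (Fin 4) = 4 := Nat.card_fin 4
  set V := commutator (alternatingGroup (Fin 4))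
  have hV4 : Nat.card V = 4 := by
    rw [show V = alternatingGroup.kleinFour (Fin 4) from (alternatingGroup.kleinFour_eq_commutator hα).symm]
    exact alternatingGroup.kleinFour_card_of_card_eq_four hα
  have hVe : ∀ v ∈ V, v * v = 1 := by
    intro v hv
    rw [show V = alternatingGroup.kleinFour (Fin 4) from (alternatingGroup.kleinFour_eq_commutator hα).symm] at hv
    have := Monoid.pow_exponent_eq_one (⟨v, hv⟩ : alternatingGroup.kleinFour (Fin 4))
    rw [alternatingGroup.exponent_kleinFour_of_card_eq_four hα] at this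
    have := congrArg Subtype.val this
    simpa [pow_two] using this
  have hA : Nat.card (alternatingGroup (Fin 4)) = 12 := by
    have := two_mul_nat_card_alternatingGroup (α := Fin 4)
    rw [Nat.card_perm, hα, show Nat.factorial 4 = 24 from rfl] at this
    omega
  -- two generators of the four-group
  obtain ⟨⟨p, hp⟩, hp1⟩ : ∃ p : V, p ≠ 1 := by
    rw [← not_forall_not]
    intro h
    have : Subsingleton V := ⟨fun a b => by rw [not_not.1 (h a), not_not.1 (h b)]⟩
    have := Nat.card_of_subsingleton (1 : V)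
    omega
  replace hp1 : p ≠ 1 := fun e => hp1 (Subtype.ext e)
  obtain ⟨q, hq, hq1, hqp⟩ : ∃ q ∈ V, q ≠ 1 ∧ q ≠ p := by
    by_contra h
    push Not at h
    have : Nat.card V ≤ 2 := by
      refine le_trans (Nat.card_le_card_of_injective (fun v : V => decide ((v : alternatingGroup (Fin 4)) = 1)) ?_) (by simp)
      intro a b e
      by_cases ha : (a : alternatingGroup (Fin 4)) = 1
      · by_cases hb : (b : alternatingGroup (Fin 4)) = 1
        · exact Subtype.ext (ha.trans hb.symm)
        · simp [ha, hb] at e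
      · by_cases hb : (b : alternatingGroup (Fin 4)) = 1
        · simp [ha, hb] at e
        · exact Subtype.ext ((h a a.2 ha).trans (h b b.2 hb).symm)
    omega
  have hVlist : ∀ v ∈ V, v = 1 ∨ v = p ∨ v = q ∨ v = p * q := by
    intro v hv
    by_contra hne
    push Not at hne
    obtain ⟨n1, n2, n3, n4⟩ := hne
    have hpq1 : p * q ≠ 1 := fun e => hqp (mul_left_cancel (e.trans (hVe p hp).symm))
    have h5 : ({1, p, q, p * q, v} : Finset (alternatingGroup (Fin 4))).card = 5 := by
      simp [Ne.symm hp1, Ne.symm hq1, Ne.symm hpq1, Ne.symm hqp, Ne.symm n1, Ne.symm n2, Ne.symm n3,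
        Ne.symm n4, hq1, hp1]
    have hsub : ({1, p, q, p * q, v} : Finset (alternatingGroup (Fin 4))) ⊆ (V : Set _).toFinset := by
      intro x hx
      simp only [Finset.mem_insert, Finset.mem_singleton] at hx
      rcases hx with rfl | rfl | rfl | rfl | rfl <;> simp [one_mem, hp, hq, hv, mul_mem hp hq]
    have := Finset.card_le_card hsub
    rw [h5, Set.toFinset_card, ← Nat.card_eq_fintype_card] at this
    change 5 ≤ Nat.card V at this
    omega
  obtain ⟨P, rfl⟩ := hsurj p
  obtain ⟨Q, rfl⟩ := hsurj q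
  set c := ⁅P, Q⁆ with hcdef
  have hcomm : π P * π Q = π Q * π P := by
    have h := hVe (π P * π Q) (mul_mem hp hq)
    calc π P * π Q = (π P * π Q)⁻¹ := (inv_eq_of_mul_eq_one_right h).symm
      _ = π Q * π P := by rw [mul_inv_rev, inv_eq_of_mul_eq_one_right (hVe _ hp),
          inv_eq_of_mul_eq_one_right (hVe _ hq)]
  have hck : c ∈ π.ker := by
    rw [MonoidHom.mem_ker, hcdef, map_commutatorElement]
    exact commutatorElement_eq_one_iff_mul_comm.2 hcomm
  have hcc := hc hck
  have hc2 : c ^ 2 = 1 := by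
    have hP2 : P * P ∈ Subgroup.center Γ := hc (by rw [MonoidHom.mem_ker, map_mul]; exact hVe _ hp)
    have e1 : P * c * P⁻¹ = c := by rw [Subgroup.mem_center_iff.1 hcc P, mul_inv_cancel_right]
    have e2 : P * c * P⁻¹ = c⁻¹ := by
      have := Subgroup.mem_center_iff.1 hP2 Q
      calc P * c * P⁻¹ = (P * P * Q) * P⁻¹ * Q⁻¹ * P⁻¹ := by
            rw [hcdef, commutatorElement_def]; group
        _ = c⁻¹ := by rw [← this, hcdef, commutatorElement_def]; group
    rw [pow_two]
    nth_rewrite 2 [← e1]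
    rw [e2, mul_inv_cancel]
  set C := Subgroup.zpowers c
  have hCc : C ≤ Subgroup.center Γ := Subgroup.zpowers_le.2 hcc
  have hCn : C.Normal := ⟨fun x hx g => by
    rw [Subgroup.mem_center_iff.1 (hCc hx) g, mul_inv_cancel_right]; exact hx⟩
  let f : Γ →* Γ ⧸ C := QuotientGroup.mk' C
  have hfs : Function.Surjective f := QuotientGroup.mk'_surjective C
  let πq : Γ ⧸ C →* alternatingGroup (Fin 4) :=
    QuotientGroup.lift C π (Subgroup.zpowers_le.2 hck)
  have hπq : ∀ g, πq (f g) = π g := fun g => rfl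
  have hZc : ∀ z ∈ π.ker, ∀ x, x * f z = f z * x := by
    intro z hz x
    obtain ⟨g, rfl⟩ := hfs x
    rw [← map_mul, ← map_mul, Subgroup.mem_center_iff.1 (hc hz) g]
  have hPQ : f P * f Q = f Q * f P := by
    rw [← commutatorElement_eq_one_iff_mul_comm, ← map_commutatorElement]
    exact (QuotientGroup.eq_one_iff _).2 (Subgroup.mem_zpowers c)
  -- elements over the four-group
  have hW : ∀ w, π w ∈ V → ∃ z ∈ π.ker, w = z ∨ w = P * z ∨ w = Q * z ∨ w = P * Q * z := by
    intro w hw
    rcases hVlist _ hw with e | e | e | e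
    · exact ⟨w, e, Or.inl rfl⟩
    · exact ⟨P⁻¹ * w, by simp [MonoidHom.mem_ker, e], Or.inr (Or.inl (by group))⟩
    · exact ⟨Q⁻¹ * w, by simp [MonoidHom.mem_ker, e], Or.inr (Or.inr (Or.inl (by group)))⟩
    · exact ⟨(P * Q)⁻¹ * w, by simp [MonoidHom.mem_ker, e], Or.inr (Or.inr (Or.inr (by group)))⟩
  have hWcomm : ∀ w, π w ∈ V → ∀ w', π w' ∈ V → f w * f w' = f w' * f w := by
    intro w hw w' hw'
    have hPc : ∀ w', π w' ∈ V → Commute (f P) (f w') ∧ Commute (f Q) (f w') := by
      intro w' hw'
      obtain ⟨z, hz, e⟩ := hW w' hw'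
      have cP : Commute (f P) (f z) := hZc z hz _
      have cQ : Commute (f Q) (f z) := hZc z hz _
      rcases e with rfl | rfl | rfl | rfl
      · exact ⟨cP, cQ⟩
      all_goals simp only [map_mul]
      · exact ⟨(Commute.refl _).mul_right cP, (Commute.symm hPQ).mul_right cQ⟩
      · exact ⟨(show Commute (f P) (f Q) from hPQ).mul_right cP, (Commute.refl _).mul_right cQ⟩
      · exact ⟨((Commute.refl _).mul_right (show Commute (f P) (f Q) from hPQ)).mul_right cP,
          ((Commute.symm hPQ).mul_right (Commute.refl _)).mul_right cQ⟩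
    obtain ⟨z, hz, e⟩ := hW w hw
    obtain ⟨hP', hQ'⟩ := hPc w' hw'
    have cz : Commute (f z) (f w') := (hZc z hz _).symm
    rcases e with rfl | rfl | rfl | rfl
    · exact cz
    all_goals simp only [map_mul]
    · exact hP'.mul_left cz
    · exact hQ'.mul_left cz
    · exact (hP'.mul_left hQ').mul_left cz
  -- an element outside the four-group
  obtain ⟨x, hx⟩ : ∃ x : alternatingGroup (Fin 4), x ∉ V := by
    by_contra h
    push Not at h
    have : V = ⊤ := eq_top_iff.2 fun a _ => h a
    rw [this, Subgroup.card_top] at hV4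
    omega
  obtain ⟨Y, rfl⟩ := hsurj x
  have hVn : V.Normal := by infer_instance
  set W := (V.comap π).map f
  have hWmem : ∀ w, π w ∈ V → f w ∈ W := fun w hw => Subgroup.mem_map_of_mem f hw
  let φ : W →* Γ ⧸ C :=
    { toFun := fun w => f Y * (w : Γ ⧸ C) * (f Y)⁻¹ * (w : Γ ⧸ C)⁻¹
      map_one' := by simp
      map_mul' := fun a b => by
        obtain ⟨u, hu, eu⟩ := a.2
        obtain ⟨v, hv, ev⟩ := b.2
        have hv' : π (Y * v * Y⁻¹ * v⁻¹) ∈ V := by
          rw [map_mul, map_mul, map_mul, map_inv, map_inv]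
          exact mul_mem (hVn.conj_mem _ hv _) (inv_mem hv)
        have hcm := hWcomm u hu _ hv'
        simp only [Subgroup.coe_mul, ← eu, ← ev]
        simp only [map_mul, map_inv] at hcm
        calc f Y * (f u * f v) * (f Y)⁻¹ * (f u * f v)⁻¹
            = f Y * f u * (f Y)⁻¹ * ((f Y * f v * (f Y)⁻¹ * (f v)⁻¹) * (f u)⁻¹) := by group
          _ = f Y * f u * (f Y)⁻¹ * ((f u)⁻¹ * (f Y * f v * (f Y)⁻¹ * (f v)⁻¹)) := by
              rw [(Commute.inv_left (show Commute (f u) _ from hcm)).eq]
          _ = _ := by group }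
  set R := φ.range
  have hφz : ∀ z (hz : z ∈ π.ker), φ ⟨f z, hWmem z (by rw [MonoidHom.mem_ker.1 hz]; exact one_mem _)⟩ = 1 := by
    intro z hz
    show f Y * f z * (f Y)⁻¹ * (f z)⁻¹ = 1
    rw [hZc z hz (f Y)]; group
  have hRcard : Nat.card R ≤ 4 := by
    let a : W := ⟨f P, hWmem P hp⟩
    let b : W := ⟨f Q, hWmem Q hq⟩
    have hsub : (R : Set (Γ ⧸ C)) ⊆ ({1, φ a, φ b, φ (a * b)} : Finset (Γ ⧸ C)) := by
      rintro _ ⟨⟨_, w, hw, rfl⟩, rfl⟩
      obtain ⟨z, hz, e⟩ := hW w hw
      have hz' := hφz z hz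
      simp only [Finset.coe_insert, Finset.coe_singleton, Set.mem_insert_iff, Set.mem_singleton_iff]
      set Z : W := ⟨f z, hWmem z (by rw [MonoidHom.mem_ker.1 hz]; exact one_mem _)⟩
      have key : ∀ (t : W), f w = ((t * Z : W) : Γ ⧸ C) → φ ⟨f w, hWmem w hw⟩ = φ t := by
        intro t ht
        rw [show (⟨f w, hWmem w hw⟩ : W) = t * Z from Subtype.ext ht, map_mul, hz', mul_one]
      rcases e with rfl | rfl | rfl | rfl
      · exact Or.inl (by rw [key 1 (by simp [Z])]; exact map_one φ)
      · exact Or.inr (Or.inl (key a (by simp [a, Z])))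
      · exact Or.inr (Or.inr (Or.inl (key b (by simp [b, Z]))))
      · exact Or.inr (Or.inr (Or.inr (key (a * b) (by simp [a, b, Z, mul_assoc]))))
    calc Nat.card R ≤ Nat.card ({1, φ a, φ b, φ (a * b)} : Finset (Γ ⧸ C)) :=
          Nat.card_mono (Finset.finite_toSet _) hsub
      _ ≤ 4 := by
          rw [Nat.card_eq_finsetCard]
          exact Finset.card_le_four
  have hRW : ∀ r ∈ R, r ∈ W := by
    rintro _ ⟨⟨_, w, hw, rfl⟩, rfl⟩
    refine ⟨Y * w * Y⁻¹ * w⁻¹, ?_, by simp [φ]⟩
    show π _ ∈ V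
    rw [map_mul, map_mul, map_mul, map_inv, map_inv]
    exact mul_mem (hVn.conj_mem _ hw _) (inv_mem hw)
  -- generation
  have hgen : W ⊔ Subgroup.zpowers (f Y) = ⊤ := by
    have hVY : V ⊔ Subgroup.zpowers (π Y) = ⊤ := by
      apply Subgroup.eq_top_of_card_eq
      have h1 : V < V ⊔ Subgroup.zpowers (π Y) := lt_of_le_of_ne le_sup_left fun e =>
        hx (e ▸ (le_sup_right : _ ≤ V ⊔ Subgroup.zpowers (π Y)) (Subgroup.mem_zpowers _))
      have d1 : Nat.card V ∣ Nat.card (V ⊔ Subgroup.zpowers (π Y) : Subgroup _) := Subgroup.card_dvd_of_le h1.le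
      have d2 := Subgroup.card_subgroup_dvd_card (V ⊔ Subgroup.zpowers (π Y))
      have hne : Nat.card V ≠ Nat.card (V ⊔ Subgroup.zpowers (π Y) : Subgroup _) := fun e =>
        h1.ne (Subgroup.eq_of_le_of_card_ge h1.le e.ge)
      rw [hA] at d2 ⊢
      rw [hV4] at d1 hne
      obtain ⟨k, hk⟩ := d1
      rw [hk] at d2 hne ⊢
      have : k ∣ 3 := Nat.dvd_of_mul_dvd_mul_left (by norm_num : 0 < 4) (by simpa using d2)
      rcases (Nat.dvd_prime Nat.prime_three).1 this with rfl | rfl <;> omega
    refine eq_top_iff.2 fun t _ => ?_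
    obtain ⟨g, rfl⟩ := hfs t
    obtain ⟨v, hv, u, hu, e⟩ := Subgroup.mem_sup_of_normal_left.1
      (hVY ▸ Subgroup.mem_top (π g) : π g ∈ V ⊔ Subgroup.zpowers (π Y))
    obtain ⟨k, rfl⟩ := hu
    have : π (g * (Y ^ k)⁻¹) ∈ V := by
      simp only at e
      rw [map_mul, map_inv, map_zpow, ← e, mul_inv_cancel_right]; exact hv
    rw [show g = g * (Y ^ k)⁻¹ * Y ^ k by group, map_mul, map_zpow]
    exact Subgroup.mul_mem_sup (hWmem _ this) (zpow_mem (Subgroup.mem_zpowers _) k)
  have hRn : R.Normal := by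
    rw [← Subgroup.normalizer_eq_top_iff, eq_top_iff, ← hgen, sup_le_iff]
    constructor
    · rintro _ ⟨w, hw, rfl⟩
      rw [Subgroup.mem_normalizer_iff]
      intro r
      have key : ∀ r ∈ W, f w * r * (f w)⁻¹ = r := by
        rintro _ ⟨v, hv, rfl⟩
        rw [hWcomm w hw v hv, mul_inv_cancel_right]
      constructor
      · intro hr; rwa [key r (hRW r hr)]
      · intro hr
        have := key _ (hRW _ hr)
        rw [mul_left_inj, mul_right_inj] at this
        rwa [this] at hr
    · rw [Subgroup.zpowers_le]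
      refine Subgroup.mem_normalizer_fintype ?_
      rintro _ ⟨⟨_, w, hw, rfl⟩, rfl⟩
      refine ⟨⟨f (Y * w * Y⁻¹), hWmem _ ?_⟩, ?_⟩
      · rw [map_mul, map_mul, map_inv]; exact hVn.conj_mem _ hw _
      · simp only [φ, MonoidHom.coe_mk, OneHom.coe_mk, map_mul, map_inv]
        group
  have hQR : commutator (Γ ⧸ C) ≤ R := by
    rw [← Subgroup.Normal.quotient_commutative_iff_commutator_le (N := R)]
    have hY : ∀ w, π w ∈ V → Commute (QuotientGroup.mk' R (f Y)) (QuotientGroup.mk' R (f w)) := by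
      intro w hw
      rw [Commute, SemiconjBy, ← commutatorElement_eq_one_iff_mul_comm, ← map_commutatorElement]
      exact (QuotientGroup.eq_one_iff _).2 ⟨⟨f w, hWmem w hw⟩, rfl⟩
    have hgc : ∀ t, t ∈ W ⊔ Subgroup.zpowers (f Y) →
        (∀ w, π w ∈ V → Commute (QuotientGroup.mk' R t) (QuotientGroup.mk' R (f w))) ∧
          Commute (QuotientGroup.mk' R t) (QuotientGroup.mk' R (f Y)) := by
      intro t ht
      have : W ⊔ Subgroup.zpowers (f Y) ≤
          ((Subgroup.centralizer ((QuotientGroup.mk' R) '' (W : Set (Γ ⧸ C)) ∪ {QuotientGroup.mk' R (f Y)})).comap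
            (QuotientGroup.mk' R)) := by
        rw [sup_le_iff, Subgroup.zpowers_le]
        constructor
        · rintro _ ⟨w, hw, rfl⟩
          rw [Subgroup.mem_comap, Subgroup.mem_centralizer_iff]
          rintro _ (⟨_, ⟨v, hv, rfl⟩, rfl⟩ | rfl)
          · exact (Commute.map (show Commute (f v) (f w) from hWcomm v hv w hw) (QuotientGroup.mk' R))
          · exact hY w hw
        · rw [Subgroup.mem_comap, Subgroup.mem_centralizer_iff]
          rintro _ (⟨_, ⟨v, hv, rfl⟩, rfl⟩ | rfl)
          · exact (hY v hv).symm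
          · rfl
      have h := Subgroup.mem_centralizer_iff.1 (this ht)
      exact ⟨fun w hw => (h _ (Or.inl ⟨_, hWmem w hw, rfl⟩)).symm, (h _ (Or.inr rfl)).symm⟩
    refine ⟨⟨fun a b => ?_⟩⟩
    obtain ⟨a, rfl⟩ := QuotientGroup.mk'_surjective R a
    obtain ⟨b, rfl⟩ := QuotientGroup.mk'_surjective R b
    obtain ⟨hw', hY'⟩ := hgc a (hgen ▸ Subgroup.mem_top a)
    have hb : b ∈ (Subgroup.centralizer {QuotientGroup.mk' R a}).comap (QuotientGroup.mk' R) := by
      refine (?_ : W ⊔ Subgroup.zpowers (f Y) ≤ _) (hgen ▸ Subgroup.mem_top b)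
      rw [sup_le_iff, Subgroup.zpowers_le]
      constructor
      · rintro _ ⟨w, hw, rfl⟩
        exact Subgroup.mem_centralizer_singleton_iff.2 (hw' w hw).symm
      · exact Subgroup.mem_centralizer_singleton_iff.2 hY'.symm
    exact (Subgroup.mem_centralizer_singleton_iff.1 hb).symm
  -- the kernel meets the commutator trivially
  have hinj : ∀ r ∈ R, πq r = 1 → r = 1 := by
    have hsur : V ≤ R.map πq := by
      calc V = (commutator (Γ ⧸ C)).map πq := by
            rw [show V = _ from commutator_def _, commutator_def, Subgroup.map_commutator,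
              Subgroup.map_top_of_surjective]
            intro a
            obtain ⟨g, rfl⟩ := hsurj a
            exact ⟨f g, rfl⟩
        _ ≤ R.map πq := Subgroup.map_mono hQR
    intro r hr h1
    have hcard : Nat.card R ≤ Nat.card (R.map πq) := hRcard.trans (hV4.ge.trans (Subgroup.card_le_of_le hsur))
    have hbij : Function.Injective (πq.subgroupMap R) :=
      ((Nat.bijective_iff_surjective_and_card _).2
        ⟨MonoidHom.subgroupMap_surjective πq R,
          le_antisymm hcard (Nat.card_le_card_of_surjective _ (MonoidHom.subgroupMap_surjective πq R))⟩).1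
    have := @hbij ⟨r, hr⟩ 1 (Subtype.ext (by simpa using h1))
    exact congrArg Subtype.val this
  have hle : π.ker ≤ C := by
    intro z hz
    have h1 : f z ∈ commutator (Γ ⧸ C) := by
      have : (commutator Γ).map f ≤ commutator (Γ ⧸ C) := by
        rw [commutator_def, commutator_def, Subgroup.map_commutator]
        exact Subgroup.commutator_mono le_top le_top
      exact this (Subgroup.mem_map_of_mem f (hd hz))
    exact (QuotientGroup.eq_one_iff z).1 (hinj _ (hQR h1) (by exact hz))
  calc Nat.card π.ker ≤ Nat.card C := Subgroup.card_le_of_le hle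
    _ ≤ 2 := by
      rw [Nat.card_zpowers]
      exact Nat.le_of_dvd two_pos (orderOf_dvd_of_pow_eq_one hc2)

end Cfsg.Agent.AltMult
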