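import Mathlib

/-!
# A coset bound for the generators `(0 1 i)` of an alternating group

If `f 0, …, f (m-1)` have order dividing 3 and all products of two distinct ones have order
dividing 2 then they generate at most `(m+2)!/2` elements.
-/

set_option autoImplicit false

namespace Cfsg.Agent.AltMult

theorem two_mul_card_closure_le {K : Type*} [Group K] [Finite K] :
    ∀ (m : ℕ) (f : ℕ → K), (∀ i < m, f i ^ 3 = 1) →
      (∀ i j, i < m → j < m → i ≠ j → (f i * f j) ^ 2 = 1) →
      2 * Nat.card (Subgroup.closure (f '' Set.Iio m)) ≤ (m + 2).factorial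
  | 0, f, _, _ => by simp
  | m + 1, f, h3, h2 => by
    classical
    set H := Subgroup.closure (f '' Set.Iio m) with hH
    have hfH : ∀ i < m, f i ∈ H := fun i hi => Subgroup.subset_closure ⟨i, hi, rfl⟩
    have cube : ∀ i < m + 1, f i * f i * f i = 1 := fun i hi => by rw [← pow_three']; exact h3 i hi
    have inv3 : ∀ i < m + 1, (f i)⁻¹ = f i * f i := fun i hi =>
      inv_eq_of_mul_eq_one_right (by rw [← mul_assoc]; exact cube i hi)
    -- `f i * f j = (f j)⁻¹ * (f i)⁻¹`
    have flip : ∀ i j, i < m + 1 → j < m + 1 → i ≠ j → f i * f j = (f j)⁻¹ * (f i)⁻¹ := by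
      intro i j hi hj hij
      rw [← mul_inv_rev]
      exact eq_inv_of_mul_eq_one_left (by rw [← pow_two]; exact h2 i j hi hj hij)
    set y := f m
    let R : Finset K := {1, y, y * y} ∪ (Finset.range m).image fun i => y * y * f i
    have hR : R.card ≤ m + 3 := by
      refine (Finset.card_union_le _ _).trans ?_
      have h1 : ({1, y, y * y} : Finset K).card ≤ 3 := Finset.card_le_three
      have h2' := Finset.card_image_le (s := Finset.range m) (f := fun i => y * y * f i)
      rw [Finset.card_range] at h2'
      omega
    have r1 : (1 : K) ∈ R := by simp [R]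
    have ry : y ∈ R := by simp [R]
    have ryy : y * y ∈ R := by simp [R]
    have ryi : ∀ i < m, y * y * f i ∈ R := fun i hi =>
      Finset.mem_union_right _ (Finset.mem_image.2 ⟨i, Finset.mem_range.2 hi, rfl⟩)
    let P : K → Prop := fun x => ∃ h ∈ H, ∃ r ∈ R, x = h * r
    -- moving a generator past `y` to the left
    have pull : ∀ i < m, y * f i = (f i)⁻¹ * (y * y) := by
      intro i hi
      rw [flip m i (by omega) (by omega) (by omega), inv3 m (by omega)]
    have pull2 : ∀ i < m, y * (f i * f i) = (f i)⁻¹ * (y * y * f i) := by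
      intro i hi
      rw [← mul_assoc, pull i hi, mul_assoc]
    have back : ∀ i < m, y * y * (f i * f i) = f i * y := by
      intro i hi
      rw [flip i m (by omega) (by omega) (by omega), inv3 m (by omega), inv3 i (by omega)]
    have step : ∀ x j, j < m + 1 → P x → P (x * f j) := by
      rintro x j hj ⟨h, hh, r, hr, rfl⟩
      suffices P (r * f j) by
        obtain ⟨h', hh', r', hr', e⟩ := this
        exact ⟨h * h', mul_mem hh hh', r', hr', by rw [mul_assoc, e, mul_assoc]⟩
      clear hh h
      simp only [R, Finset.mem_union, Finset.mem_insert, Finset.mem_singleton, Finset.mem_image,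
        Finset.mem_range] at hr
      rcases (Nat.lt_succ_iff_lt_or_eq.1 hj) with hjm | rfl
      · rcases hr with (rfl | rfl | rfl) | ⟨i, hi, rfl⟩
        · exact ⟨f j, hfH j hjm, 1, r1, by simp⟩
        · exact ⟨(f j)⁻¹, inv_mem (hfH j hjm), y * y, ryy, pull j hjm⟩
        · exact ⟨1, one_mem _, _, ryi j hjm, (one_mul _).symm⟩
        · by_cases hij : i = j
          · subst hij
            exact ⟨f i, hfH i hi, y, ry, by rw [mul_assoc, back i hi]⟩
          · refine ⟨f j * (f i)⁻¹, mul_mem (hfH j hjm) (inv_mem (hfH i hi)), _, ryi i hi, ?_⟩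
            rw [mul_assoc (y * y), flip i j (by omega) hj hij, inv3 j hj, inv3 i (by omega),
              ← mul_assoc, back j hjm, mul_assoc (f j) y, pull2 i hi, inv3 i (by omega)]
            simp only [mul_assoc]
      · rcases hr with (rfl | rfl | rfl) | ⟨i, hi, rfl⟩
        · exact ⟨1, one_mem _, y, ry, by simp [y]⟩
        · exact ⟨1, one_mem _, y * y, ryy, by simp [y]⟩
        · exact ⟨1, one_mem _, 1, r1, by rw [cube j hj, one_mul]⟩
        · refine ⟨(f i)⁻¹, inv_mem (hfH i hi), _, ryi i hi, ?_⟩
          rw [mul_assoc (y * y), flip i j (by omega) hj (by omega), inv3 j hj, inv3 i (by omega)]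
          have : y * y * (y * y * (f i * f i)) = y * (f i * f i) := by
            rw [← mul_assoc (y * y), ← mul_assoc (y * y), cube j hj, one_mul]
          rw [this, pull2 i hi, inv3 i (by omega)]
    have hcover : ∀ x ∈ Subgroup.closure (f '' Set.Iio (m + 1)), P x := by
      intro x hx
      induction hx using Subgroup.closure_induction_right with
      | one => exact ⟨1, one_mem _, 1, r1, (one_mul 1).symm⟩
      | mul_right a _ b hb ih =>
        obtain ⟨j, hj, rfl⟩ := hb
        exact step a j hj ih
      | mul_inv_cancel a _ b hb ih =>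
        obtain ⟨j, hj, rfl⟩ := hb
        rw [inv3 j hj, ← mul_assoc]
        exact step _ j hj (step a j hj ih)
    have hle : Nat.card (Subgroup.closure (f '' Set.Iio (m + 1))) ≤ Nat.card H * R.card := by
      rw [← Nat.card_eq_finsetCard, ← Nat.card_prod]
      have : ∀ x : Subgroup.closure (f '' Set.Iio (m + 1)),
          ∃ p : H × R, (x : K) = (p.1 : K) * (p.2 : K) := fun x => by
        obtain ⟨h, hh, r, hr, e⟩ := hcover x x.2
        exact ⟨(⟨h, hh⟩, ⟨r, hr⟩), e⟩
      choose g hg using this
      exact Nat.card_le_card_of_injective g fun a b hab => Subtype.ext (by rw [hg a, hg b, hab])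
    have ih := two_mul_card_closure_le m f (fun i hi => h3 i (by omega))
      (fun i j hi hj => h2 i j (by omega) (by omega))
    calc 2 * Nat.card (Subgroup.closure (f '' Set.Iio (m + 1)))
        ≤ 2 * (Nat.card H * R.card) := Nat.mul_le_mul_left 2 hle
      _ = R.card * (2 * Nat.card H) := by ring
      _ ≤ (m + 3) * (m + 2).factorial := Nat.mul_le_mul hR ih
      _ = (m + 1 + 2).factorial := (Nat.factorial_succ (m + 2)).symm

end Cfsg.Agent.AltMult
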